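import Mathlib
import Groth.Agent.Lib.Helper2.IHomColim.Abs

/-!
# Direct image of abelian sheaves along a closed embedding preserves colimits (helper2)

For a closed embedding `i : Z ⟶ X` of topological spaces, the direct image functor
`i_* : Sh(Z, Ab) ⥤ Sh(X, Ab)` preserves all small colimits.  The proof is by stalks: the stalk of
`i_* F` at `i z` is the stalk of `F` at `z`, and the stalk at a point outside `i(Z)` is zero.
-/

set_option autoImplicit false

universe u

open CategoryTheory CategoryTheory.Limits TopologicalSpace Opposite TopCat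

namespace Groth.Agent.Lib.Helper2.ClosedPush

noncomputable section

section Abstract

variable {A : Type*} [Category A] {B : Type*} [Category B] {J : Type*} [Category J]

/-- a functor all of whose values are zero objects preserves all colimits -/
lemma preservesColimit_of_isZero (H : A ⥤ B) (hH : ∀ a, IsZero (H.obj a)) (K : J ⥤ A) :
    PreservesColimit K H where
  preserves {c} _ :=
    ⟨{ desc := fun _ => (hH c.pt).to_ _
       fac := fun _ j => (hH (K.obj j)).eq_of_src _ _
       uniq := fun _ _ _ => (hH c.pt).eq_of_src _ _ }⟩

end Abstract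

variable {Z X : TopCat.{u}} (i : Z ⟶ X)

/-- the stalk functor on sheaves -/
abbrev stk (x : X) : X.Sheaf AddCommGrpCat.{u} ⥤ AddCommGrpCat.{u} :=
  Sheaf.forget AddCommGrpCat.{u} X ⋙ Presheaf.stalkFunctor AddCommGrpCat.{u} x

/-- the direct image functor -/
abbrev push : Z.Sheaf AddCommGrpCat.{u} ⥤ X.Sheaf AddCommGrpCat.{u} :=
  TopCat.Sheaf.pushforward AddCommGrpCat.{u} i

/-- stalks of a direct image along an inducing map at a point of the image -/
def pushStkIso (hi : Topology.IsInducing i) (z : Z) :
    push i ⋙ stk (X := X) (i z) ≅ stk (X := Z) z :=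
  NatIso.ofComponents
    (fun F => @asIso _ _ _ _ (F.presheaf.stalkPushforward AddCommGrpCat.{u} i z)
      (Presheaf.stalkPushforward.stalkPushforward_iso_of_isInducing _ hi F.presheaf z))
    (by
      intro F F' φ
      apply Presheaf.stalk_hom_ext
      intro U hU
      have e1 := Presheaf.stalkFunctor_map_germ U (i z) hU
        ((Sheaf.forget AddCommGrpCat.{u} X).map ((push i).map φ))
      have e2 := Presheaf.stalkPushforward_germ AddCommGrpCat.{u} i F'.presheaf U z hU
      have e3 := Presheaf.stalkPushforward_germ AddCommGrpCat.{u} i F.presheaf U z hU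
      have e4 := Presheaf.stalkFunctor_map_germ ((Opens.map i).obj U) z hU
        ((Sheaf.forget AddCommGrpCat.{u} Z).map φ)
      refine ((Category.assoc _ _ _).symm.trans ?_)
      refine (congrArg (· ≫ Presheaf.stalkPushforward AddCommGrpCat.{u} i F'.presheaf z) e1).trans ?_
      refine (Category.assoc _ _ _).trans ?_
      refine (congrArg (((Sheaf.forget AddCommGrpCat.{u} X).map ((push i).map φ)).app (op U) ≫ ·)
        e2).trans ?_
      refine Eq.trans ?_ (Category.assoc _ _ _)
      refine Eq.trans ?_ (congrArg (· ≫ (Presheaf.stalkFunctor AddCommGrpCat.{u} z).map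
        ((Sheaf.forget AddCommGrpCat.{u} Z).map φ)) e3.symm)
      exact e4.symm)


/-- sections of an abelian sheaf over an empty open set -/
lemma subsingleton_of_eq_bot (F : Z.Sheaf AddCommGrpCat.{u}) {V : Opens Z} (hV : V = ⊥) :
    Subsingleton (F.presheaf.obj (op V)) := by
  have ht : IsTerminal (F.presheaf.obj (op V)) := TopCat.Sheaf.isTerminalOfEqEmpty F hV
  have hz : IsZero (F.presheaf.obj (op V)) :=
    (isZero_zero AddCommGrpCat.{u}).of_iso (ht.uniqueUpToIso (isZero_zero _).isTerminal)
  exact AddCommGrpCat.subsingleton_of_isZero hz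

/-- the stalk of a direct image along a map with closed range vanishes outside the range -/
lemma isZero_stalk_push (hi : IsClosed (Set.range i)) (x : X) (hx : x ∉ Set.range i)
    (F : Z.Sheaf AddCommGrpCat.{u}) : IsZero ((push i ⋙ stk (X := X) x).obj F) := by
  haveI : Subsingleton ((push i ⋙ stk (X := X) x).obj F) := by
    refine ⟨fun s t => ?_⟩
    have key : ∀ s : ((push i ⋙ stk (X := X) x).obj F), s = 0 := by
      intro s
      obtain ⟨U, hxU, a, rfl⟩ := Presheaf.exists_germ_eq ((push i).obj F).presheaf s
      let W : Opens X := U ⊓ ⟨(Set.range i)ᶜ, hi.isOpen_compl⟩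
      have hxW : x ∈ W := ⟨hxU, hx⟩
      have hWU : W ≤ U := inf_le_left
      have hbot : (Opens.map i).obj W = ⊥ := by
        ext z
        simp only [Opens.map_coe, Set.mem_preimage, SetLike.mem_coe, Opens.coe_bot,
          Set.mem_empty_iff_false, iff_false]
        intro hz
        exact hz.2 ⟨z, rfl⟩
      haveI := subsingleton_of_eq_bot F hbot
      have h1 := Presheaf.germ_res_apply ((push i).obj F).presheaf (homOfLE hWU) x hxW a
      have h2 : ((push i).obj F).presheaf.map (homOfLE hWU).op a = 0 :=
        Subsingleton.elim (α := F.presheaf.obj (op ((Opens.map i).obj W))) _ _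
      rw [h2, map_zero] at h1
      exact h1.symm
    rw [key s, key t]
  exact AddCommGrpCat.isZero_of_subsingleton _


/-- **the direct image of abelian sheaves along a closed embedding preserves colimits** -/
theorem preservesColimit_push (hi : Topology.IsClosedEmbedding i) {J : Type u} [SmallCategory J]
    (K : J ⥤ Z.Sheaf AddCommGrpCat.{u}) : PreservesColimit K (push i) := by
  classical
  haveI : ∀ x : X, PreservesColimit K (push i ⋙ stk (X := X) x) := by
    intro x
    by_cases hx : x ∈ Set.range i
    · obtain ⟨z, rfl⟩ := hx
      exact preservesColimit_of_natIso K (pushStkIso i hi.isInducing z).symm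
    · exact preservesColimit_of_isZero _ (isZero_stalk_push i hi.isClosed_range x hx) K
  exact Groth.Agent.Lib.Helper2.IHomColim.preservesColimit_of_jointly (push i) K
    (fun x : X => stk (X := X) x)
    (fun f hf => by
      haveI : ∀ x : X, IsIso ((Presheaf.stalkFunctor AddCommGrpCat.{u} x).map f.1) := hf
      exact Presheaf.isIso_of_stalkFunctor_map_iso f)

theorem preservesColimitsOfSize_push (hi : Topology.IsClosedEmbedding i) :
    PreservesColimitsOfSize.{u, u} (push i) where
  preservesColimitsOfShape := { preservesColimit := fun {K} => preservesColimit_push i hi K }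

end

end Groth.Agent.Lib.Helper2.ClosedPush
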