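import Groth.Agent.S0484
import Groth.Agent.Lib.Helper17.ModSiteColim
import Groth.Agent.Lib.Helper2.ClosedPush.Colim

/-!
# Direct image of `O`-modules along a morphism of schemes which is a closed embedding on
underlying spaces preserves colimits, and is a left adjoint (helper2)
-/

set_option autoImplicit false

universe u

open CategoryTheory CategoryTheory.Limits AlgebraicGeometry

namespace Groth.Agent.Lib.Helper2.ClosedPush

variable {Z X : Scheme.{u}} (i : Z ⟶ X)

/-- direct image of modules along a topological closed embedding preserves all small colimits -/
theorem preservesColimitsOfSize_pushforward (hi : Topology.IsClosedEmbedding i.base) :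
    PreservesColimitsOfSize.{u, u} (Scheme.Modules.pushforward i) := by
  have hR := Groth.Agent.Lib.Helper17.ModSiteColim.toSheaf_preservesColimits Z.ringCatSheaf
  have hS := Groth.Agent.Lib.Helper17.ModSiteColim.toSheaf_preservesColimits X.ringCatSheaf
  have rS : ReflectsColimitsOfSize.{u, u} (SheafOfModules.toSheaf.{u} X.ringCatSheaf) :=
    reflectsColimits_of_reflectsIsomorphisms
  have hP : PreservesColimitsOfSize.{u, u}
      ((TopologicalSpace.Opens.map i.base).sheafPushforwardContinuous AddCommGrpCat.{u}
        (Opens.grothendieckTopology X) (Opens.grothendieckTopology Z)) :=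
    preservesColimitsOfSize_push i.base hi
  have c1 : PreservesColimitsOfSize.{u, u}
      (SheafOfModules.pushforward.{u} i.toRingCatSheafHom ⋙
        SheafOfModules.toSheaf.{u} X.ringCatSheaf) :=
    inferInstanceAs (PreservesColimitsOfSize.{u, u}
      (SheafOfModules.toSheaf.{u} Z.ringCatSheaf ⋙
        (TopologicalSpace.Opens.map i.base).sheafPushforwardContinuous AddCommGrpCat.{u}
          (Opens.grothendieckTopology X) (Opens.grothendieckTopology Z)))
  have c2 : PreservesColimitsOfSize.{u, u}
      (SheafOfModules.pushforward.{u} i.toRingCatSheafHom) :=
    preservesColimits_of_reflects_of_preserves _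
      (SheafOfModules.toSheaf.{u} X.ringCatSheaf)
  exact c2

/-- direct image of modules along a topological closed embedding is a left adjoint -/
theorem isLeftAdjoint_pushforward (hi : Topology.IsClosedEmbedding i.base) :
    (Scheme.Modules.pushforward i).IsLeftAdjoint := by
  have hG : IsGrothendieckAbelian.{u} Z.Modules :=
    Groth.Agent.S0484.result (Opens.grothendieckTopology Z) Z.ringCatSheaf
  have c3 := preservesColimitsOfSize_pushforward i hi
  have hW : WellPowered.{u} Z.Modules := IsGrothendieckAbelian.wellPowered _
  have hW' : WellPowered.{u} Z.Modulesᵒᵖ := Abelian.wellPowered_opposite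
  exact isLeftAdjoint_of_preservesColimits_of_isSeparating
    (isSeparator_separator Z.Modules) _

end Groth.Agent.Lib.Helper2.ClosedPush
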